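import Mathlib

/-!
A functional on the divided power algebra killing all `dp d m` over a small residue field.
-/

noncomputable section
namespace Groth.Agent.GammaSpanCyclic

open MvPolynomial
open scoped TensorProduct

universe u v w

section

variable {R : Type*} [CommRing R]

theorem coeff_prod_mul {ι : Type*} [DecidableEq ι] (l : ι → R) (hl : ∀ j, l j * l j = 0) (s : Finset ι) :
    ∀ n p : ℕ, (∏ j ∈ s, (1 + Polynomial.C (l j) * Polynomial.X)).coeff n *
      (∏ j ∈ s, (1 + Polynomial.C (l j) * Polynomial.X)).coeff p =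
      ((n + p).choose n : R) * (∏ j ∈ s, (1 + Polynomial.C (l j) * Polynomial.X)).coeff (n + p) := by
  induction s using Finset.induction with
  | empty =>
    intro n p
    rcases n with _ | n
    · simp [Nat.choose_zero_right]
    · simp [Polynomial.coeff_one]
  | insert a s ha ih =>
    intro n p
    rw [Finset.prod_insert ha]
    set P := ∏ j ∈ s, (1 + Polynomial.C (l j) * Polynomial.X) with hP
    have h0 : ((1 + Polynomial.C (l a) * Polynomial.X) * P).coeff 0 = P.coeff 0 := by
      simp [Polynomial.mul_coeff_zero]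
    have hs : ∀ m, ((1 + Polynomial.C (l a) * Polynomial.X) * P).coeff (m + 1) = P.coeff (m + 1) + l a * P.coeff m := by
      intro m
      rw [add_mul, one_mul, Polynomial.coeff_add, mul_assoc, Polynomial.coeff_C_mul, Polynomial.coeff_X_mul]
    have hP0 : P.coeff 0 = 1 := by
      simp [hP, Polynomial.coeff_zero_eq_eval_zero, Polynomial.eval_prod]
    rcases n with _ | n
    · simp [h0, hP0, Nat.choose_zero_right]
    rcases p with _ | p
    · simp [h0, hP0, Nat.choose_self]
    rw [hs, hs, show n + 1 + (p + 1) = (n + p + 1) + 1 by omega, hs]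
    have hpascal : (n + p + 1 + 1).choose (n + 1) = (n + p + 1).choose n + (n + p + 1).choose (n + 1) :=
      Nat.choose_succ_succ _ _
    have e1 := ih (n + 1) (p + 1)
    have e2 := ih n (p + 1)
    have e3 := ih (n + 1) p
    have e4 := ih n p
    rw [show n + 1 + (p + 1) = n + p + 1 + 1 by omega] at e1
    rw [show n + (p + 1) = n + p + 1 by omega] at e2
    rw [show n + 1 + p = n + p + 1 by omega] at e3
    calc (P.coeff (n + 1) + l a * P.coeff n) * (P.coeff (p + 1) + l a * P.coeff p)
        = P.coeff (n + 1) * P.coeff (p + 1)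
          + l a * (P.coeff n * P.coeff (p + 1) + P.coeff (n + 1) * P.coeff p)
          + (l a * l a) * (P.coeff n * P.coeff p) := by ring
      _ = _ := by rw [hl, e1, e2, e3, hpascal]; push_cast; ring

end

variable {A : Type u} [CommRing A] {M : Type v} [AddCommGroup M] [Module A M]
  {κ : Type w} [Field κ] [Algebra A κ] (d : ℕ)

/-- The square-zero relations. -/
def sqZero (κ : Type w) [Field κ] (d : ℕ) : Ideal (MvPolynomial (Fin d × Fin 2) κ) :=
  Ideal.span (Set.range fun x : Fin d × (Fin 2 × Fin 2) => X (x.1, x.2.1) * X (x.1, x.2.2))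

/-- The exponent of a word. -/
def word (w : Fin d → Fin 2) : Fin d × Fin 2 →₀ ℕ :=
  ∑ j, Finsupp.single (j, w j) 1

theorem word_apply (w : Fin d → Fin 2) (j : Fin d) (a : Fin 2) :
    word d w (j, a) = if w j = a then 1 else 0 := by
  classical
  rw [word, Finsupp.finsetSum_apply, Finset.sum_eq_single j]
  · simp [Finsupp.single_apply]
  · intro b _ hb
    rw [Finsupp.single_eq_of_ne]
    intro h
    exact hb (Prod.ext_iff.1 h).1.symm
  · simp

theorem word_injective : Function.Injective (word d) := by
  intro w w' h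
  funext j
  have := congrArg (fun f => f (j, w j)) h
  simp only [word_apply, if_true] at this
  by_contra hne
  rw [if_neg (Ne.symm hne)] at this
  exact one_ne_zero this

theorem coeff_sqZero (w : Fin d → Fin 2) {p : MvPolynomial (Fin d × Fin 2) κ} (hp : p ∈ sqZero κ d) :
    coeff (word d w) p = 0 := by
  classical
  obtain ⟨c, rfl⟩ := Ideal.mem_span_range_iff_exists_fun.1 hp
  rw [coeff_sum]
  refine Finset.sum_eq_zero fun x _ => ?_
  obtain ⟨j, a, b⟩ := x
  rw [show (X (j, a) * X (j, b) : MvPolynomial (Fin d × Fin 2) κ) =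
      monomial (Finsupp.single (j, a) 1 + Finsupp.single (j, b) 1) 1 by
        rw [X, X, monomial_mul, one_mul], coeff_mul_monomial', if_neg]
  intro hle
  by_cases hab : a = b
  · subst hab
    have := hle (j, a)
    simp [word_apply] at this
    split_ifs at this <;> omega
  · have h1 := hle (j, a)
    have h2 := hle (j, b)
    simp [word_apply, Finsupp.single_apply, hab, Ne.symm hab] at h1 h2
    have ha : w j = a := by by_contra h; simp [h] at h1
    have hb : w j = b := by by_contra h; simp [h] at h2
    exact hab (ha ▸ hb)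

variable (uv : Fin 2 → M →ₗ[A] κ)

/-- The linear forms. -/
def ell (j : Fin d) (m : M) : MvPolynomial (Fin d × Fin 2) κ :=
  C (uv 0 m) * X (j, 0) + C (uv 1 m) * X (j, 1)

/-- The generating series. -/
def ser (m : M) : Polynomial (MvPolynomial (Fin d × Fin 2) κ) :=
  ∏ j, (1 + Polynomial.C (ell d uv j m) * Polynomial.X)

theorem ell_mul_mem (j : Fin d) (m m' : M) : ell d uv j m * ell d uv j m' ∈ sqZero κ d := by
  have h : ∀ a b : Fin 2, (X (j, a) * X (j, b) : MvPolynomial (Fin d × Fin 2) κ) ∈ sqZero κ d :=
    fun a b => Ideal.subset_span ⟨(j, (a, b)), rfl⟩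
  have e : ell d uv j m * ell d uv j m' =
      C (uv 0 m * uv 0 m') * (X (j, 0) * X (j, 0)) + C (uv 0 m * uv 1 m') * (X (j, 0) * X (j, 1)) +
      C (uv 1 m * uv 0 m') * (X (j, 1) * X (j, 0)) + C (uv 1 m * uv 1 m') * (X (j, 1) * X (j, 1)) := by
    simp only [ell, map_mul]; ring
  rw [e]
  exact Ideal.add_mem _ (Ideal.add_mem _ (Ideal.add_mem _ (Ideal.mul_mem_left _ _ (h _ _))
    (Ideal.mul_mem_left _ _ (h _ _))) (Ideal.mul_mem_left _ _ (h _ _))) (Ideal.mul_mem_left _ _ (h _ _))

abbrev D (κ : Type w) [Field κ] (d : ℕ) := MvPolynomial (Fin d × Fin 2) κ ⧸ sqZero κ d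

/-- The evaluation map. -/
def phi : DividedPowerAlgebra A M →ₐ[A] D κ d :=
  DividedPowerAlgebra.lift' (f := fun nm : ℕ × M => Ideal.Quotient.mk (sqZero κ d) ((ser d uv nm.2).coeff nm.1))
    (fun m => by
      simp only [ser, Polynomial.coeff_zero_eq_eval_zero, Polynomial.eval_prod]
      simp)
    (fun n r m => by
      have hell : ∀ j, ell d uv j (r • m) = C (algebraMap A κ r) * ell d uv j m := fun j => by
        simp only [ell, map_smul, Algebra.smul_def, map_mul]; ring
      have hcomp : ser d uv (r • m) = (ser d uv m).comp (Polynomial.C (C (algebraMap A κ r)) * Polynomial.X) := by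
        rw [ser, ser, Polynomial.prod_comp]
        refine Finset.prod_congr rfl fun j _ => ?_
        simp only [hell, map_mul, Polynomial.add_comp, Polynomial.one_comp, Polynomial.mul_comp,
          Polynomial.C_comp, Polynomial.X_comp]
        ring
      simp only [hcomp, Polynomial.comp_C_mul_X_coeff, map_mul, map_pow]
      rw [Algebra.smul_def, map_pow, mul_comm]
      rfl)
    (fun n p m => by
      have h := coeff_prod_mul (fun j => Ideal.Quotient.mk (sqZero κ d) (ell d uv j m))
        (fun j => by rw [← map_mul]; exact Ideal.Quotient.eq_zero_iff_mem.2 (ell_mul_mem d uv j m m))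
        Finset.univ n p
      have e : ∀ k, Ideal.Quotient.mk (sqZero κ d) ((ser d uv m).coeff k) =
          (∏ j, (1 + Polynomial.C (Ideal.Quotient.mk (sqZero κ d) (ell d uv j m)) * Polynomial.X)).coeff k := by
        intro k
        rw [← Polynomial.coeff_map, ser, Polynomial.map_prod]
        simp
      simp only [e, nsmul_eq_mul]
      exact h)
    (fun n x y => by
      have key : (ser d uv (x + y)).map (Ideal.Quotient.mk (sqZero κ d)) =
          (ser d uv x).map (Ideal.Quotient.mk _) * (ser d uv y).map (Ideal.Quotient.mk _) := by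
        simp only [ser, Polynomial.map_prod, ← Finset.prod_mul_distrib]
        refine Finset.prod_congr rfl fun j _ => ?_
        have hz : Ideal.Quotient.mk (sqZero κ d) (ell d uv j x * ell d uv j y) = 0 :=
          Ideal.Quotient.eq_zero_iff_mem.2 (ell_mul_mem d uv j x y)
        have ha : ell d uv j (x + y) = ell d uv j x + ell d uv j y := by
          simp only [ell, map_add]; ring
        simp only [Polynomial.map_add, Polynomial.map_one, Polynomial.map_mul, Polynomial.map_C, Polynomial.map_X, ha,
          map_add]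
        rw [map_mul] at hz
        linear_combination (-(Polynomial.X ^ 2)) * (congrArg Polynomial.C hz).trans Polynomial.C_0 +
          Polynomial.X ^ 2 * (map_mul Polynomial.C (Ideal.Quotient.mk (sqZero κ d) (ell d uv j x)) (Ideal.Quotient.mk (sqZero κ d) (ell d uv j y)))
      have := congrArg (fun P => Polynomial.coeff P n) key
      simpa only [Polynomial.coeff_map, Polynomial.coeff_mul] using this)

theorem phi_dp (n : ℕ) (m : M) :
    phi d uv (DividedPowerAlgebra.dp A n m) = Ideal.Quotient.mk (sqZero κ d) ((ser d uv m).coeff n) :=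
  DividedPowerAlgebra.lift'_apply_dp ..

theorem ser_coeff_top (m : M) : (ser d uv m).coeff d = ∏ j, ell d uv j m := by
  classical
  have h : ser d uv m = ∑ t ∈ (Finset.univ : Finset (Fin d)).powerset,
      Polynomial.C (∏ j ∈ t, ell d uv j m) * Polynomial.X ^ t.card := by
    rw [ser, Finset.prod_one_add]
    exact Finset.sum_congr rfl fun t _ => by rw [Finset.prod_mul_distrib, Finset.prod_const, map_prod]
  rw [h, Polynomial.finsetSum_coeff, Finset.sum_eq_single Finset.univ]
  · rw [Polynomial.coeff_C_mul_X_pow]; simp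
  · intro t _ ht
    rw [Polynomial.coeff_C_mul_X_pow, if_neg]
    intro hc
    exact ht (Finset.eq_univ_of_card t (by simpa using hc.symm))
  · simp

theorem coeff_word_prod_ell (w : Fin d → Fin 2) (m : M) :
    coeff (word d w) (∏ j, ell d uv j m) = ∏ j, uv (w j) m := by
  classical
  have h : ∀ j, ell d uv j m = ∑ a : Fin 2, C (uv a m) * X (j, a) := fun j => by
    rw [Fin.sum_univ_two]; rfl
  simp only [h, Fintype.prod_sum, Finset.prod_mul_distrib, ← map_prod, coeff_sum, coeff_C_mul]
  have hX : ∀ f : Fin d → Fin 2, (∏ j, X (j, f j) : MvPolynomial (Fin d × Fin 2) κ) = monomial (word d f) 1 := by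
    intro f
    rw [word, monomial_sum_one]
    rfl
  simp only [hX, coeff_monomial]
  rw [Finset.sum_eq_single w]
  · simp
  · intro b _ hb
    rw [if_neg fun e => hb (word_injective d e), mul_zero]
  · simp

/-- The word with a single second letter. -/
def oneAt (j₀ : Fin d) : Fin d → Fin 2 := fun j => if j = j₀ then 1 else 0

/-- The word with second letters in the first `q` places. -/
def firstQ (q : ℕ) : Fin d → Fin 2 := fun j => if (j : ℕ) < q then 1 else 0

theorem prod_ite_word (p : Fin d → Prop) [DecidablePred p] (c : Fin 2 → κ) :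
    ∏ j, c (if p j then 1 else 0) = c 1 ^ (Finset.univ.filter p).card * c 0 ^ (d - (Finset.univ.filter p).card) := by
  classical
  rw [← Finset.prod_filter_mul_prod_filter_not Finset.univ p]
  congr 1
  · rw [Finset.prod_congr rfl (g := fun _ => c 1) (fun j hj => by rw [if_pos (Finset.mem_filter.1 hj).2]), Finset.prod_const]
  · rw [Finset.prod_congr rfl (g := fun _ => c 0) (fun j hj => by rw [if_neg (Finset.mem_filter.1 hj).2]), Finset.prod_const]
    congr 1
    have := Finset.card_filter_add_card_filter_not (s := (Finset.univ : Finset (Fin d))) p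
    simp only [Finset.card_univ, Fintype.card_fin] at this
    omega

theorem not_mem_span [Finite κ] (hd : Nat.card κ < d) (hu : ∃ m₁ m₂ : M,
      uv 0 m₁ = 1 ∧ uv 1 m₁ = 0 ∧ uv 0 m₂ = 0 ∧ uv 1 m₂ = 1) :
    ∃ m₁ m₂ : M, DividedPowerAlgebra.dp A (d - 1) m₁ * DividedPowerAlgebra.dp A 1 m₂ ∉
      Submodule.span A (Set.range (DividedPowerAlgebra.dp A d : M → DividedPowerAlgebra A M)) := by
  classical
  obtain ⟨m₁, m₂, h10, h11, h20, h21⟩ := hu
  refine ⟨m₁, m₂, fun hmem => ?_⟩
  set q := Nat.card κ with hq
  have hq1 : 2 ≤ q := Finite.one_lt_card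
  have hd0 : 0 < d := by omega
  let j₀ : Fin d := ⟨0, hd0⟩
  let w₁ := oneAt d j₀
  let w₂ := firstQ d q
  have hgood : ∀ z ∈ Submodule.span A (Set.range (DividedPowerAlgebra.dp A d : M → DividedPowerAlgebra A M)),
      ∀ P, Ideal.Quotient.mk (sqZero κ d) P = phi d uv z → coeff (word d w₁) P = coeff (word d w₂) P := by
    intro z hz
    induction hz using Submodule.span_induction with
    | mem z hz =>
      obtain ⟨m, rfl⟩ := hz
      intro P hP
      rw [phi_dp, ser_coeff_top, Ideal.Quotient.eq] at hP
      have hsub : ∀ w, coeff (word d w) P = ∏ j, uv (w j) m := fun w => by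
        have := coeff_sqZero d w hP
        rw [coeff_sub, sub_eq_zero, coeff_word_prod_ell] at this
        exact this
      rw [hsub, hsub]
      simp only [w₁, w₂, oneAt, firstQ]
      rw [prod_ite_word d (fun j => j = j₀) (fun a => uv a m),
        prod_ite_word d (fun j : Fin d => (j : ℕ) < q) (fun a => uv a m)]
      have c1 : (Finset.univ.filter fun j : Fin d => j = j₀).card = 1 := by
        rw [Finset.filter_eq', if_pos (Finset.mem_univ _), Finset.card_singleton]
      have c2 : (Finset.univ.filter fun j : Fin d => (j : ℕ) < q).card = q := by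
        have : (Finset.univ.filter fun j : Fin d => (j : ℕ) < q) = Finset.Iio (⟨q, hd⟩ : Fin d) := by
          ext j; simp [Fin.lt_def]
        rw [this, Fin.card_Iio]
      rw [c1, c2, pow_one]
      letI := Fintype.ofFinite κ
      have hqF : ∀ a : κ, a ^ q = a := fun a => by rw [hq, Nat.card_eq_fintype_card]; exact FiniteField.pow_card a
      rw [hqF, show d - 1 = (d - q - 1) + q by omega, pow_add, hqF,
        show d - q = (d - q - 1) + 1 by omega, pow_succ]
      simp
    | zero =>
      intro P hP
      rw [map_zero, Ideal.Quotient.eq_zero_iff_mem] at hP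
      rw [coeff_sqZero d w₁ hP, coeff_sqZero d w₂ hP]
    | add x y _ _ hx hy =>
      intro P hP
      obtain ⟨Px, hPx⟩ := Ideal.Quotient.mk_surjective (phi d uv x)
      obtain ⟨Py, hPy⟩ := Ideal.Quotient.mk_surjective (phi d uv y)
      rw [map_add, ← hPx, ← hPy, ← map_add, Ideal.Quotient.eq] at hP
      have a := coeff_sqZero d w₁ hP
      have b := coeff_sqZero d w₂ hP
      rw [coeff_sub, coeff_add, sub_eq_zero] at a b
      rw [a, b, hx Px hPx, hy Py hPy]
    | smul r x _ hx =>
      intro P hP
      obtain ⟨Px, hPx⟩ := Ideal.Quotient.mk_surjective (phi d uv x)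
      rw [map_smul, ← hPx] at hP
      have hC : r • Ideal.Quotient.mk (sqZero κ d) Px = Ideal.Quotient.mk (sqZero κ d) (C (algebraMap A κ r) * Px) := by
        rw [← Ideal.Quotient.mkₐ_eq_mk A, ← map_smul, Algebra.smul_def]; rfl
      rw [hC, Ideal.Quotient.eq] at hP
      have a := coeff_sqZero d w₁ hP
      have b := coeff_sqZero d w₂ hP
      rw [coeff_sub, coeff_C_mul, sub_eq_zero] at a b
      rw [a, b, hx Px hPx]
  have hser : ∀ (a : Fin 2) (m : M), (∀ j, ell d uv j m = X (j, a)) → ∀ k, (ser d uv m).coeff k =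
      ∑ t ∈ (Finset.univ : Finset (Fin d)).powersetCard k, ∏ j ∈ t, (X (j, a) : MvPolynomial (Fin d × Fin 2) κ) := by
    intro a m hm k
    simp only [ser, hm]
    rw [Finset.prod_one_add, Polynomial.finsetSum_coeff, Finset.powersetCard_eq_filter, Finset.sum_filter]
    refine Finset.sum_congr rfl fun t _ => ?_
    rw [Finset.prod_mul_distrib, Finset.prod_const, ← map_prod, Polynomial.coeff_C_mul_X_pow]
    exact if_congr eq_comm rfl rfl
  have key := hgood _ hmem
    ((ser d uv m₁).coeff (d - 1) * (ser d uv m₂).coeff 1)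
    (by rw [map_mul, map_mul, phi_dp, phi_dp])
  rw [hser 0 m₁ (fun j => by simp [ell, h10, h11]), hser 1 m₂ (fun j => by simp [ell, h20, h21])] at key
  simp only [Finset.sum_mul_sum, coeff_sum, Finset.powersetCard_one, Finset.sum_map,
    Function.Embedding.coeFn_mk, Finset.prod_singleton] at key
  have hmon : ∀ (t : Finset (Fin d)) (k : Fin d), (∏ j ∈ t, (X (j, 0) : MvPolynomial (Fin d × Fin 2) κ)) * X (k, 1) =
      monomial ((∑ j ∈ t, Finsupp.single (j, (0 : Fin 2)) 1) + Finsupp.single (k, 1) 1) 1 := by
    intro t k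
    rw [show (∏ j ∈ t, (X (j, 0) : MvPolynomial (Fin d × Fin 2) κ)) = monomial (∑ j ∈ t, Finsupp.single (j, (0 : Fin 2)) 1) 1
      by rw [monomial_sum_one]; rfl, X, monomial_mul, one_mul]
  have heval : ∀ (t : Finset (Fin d)) (k j : Fin d),
      ((∑ j ∈ t, Finsupp.single (j, (0 : Fin 2)) (1 : ℕ)) + Finsupp.single (k, (1 : Fin 2)) 1 : Fin d × Fin 2 →₀ ℕ) (j, 1) = if k = j then 1 else 0 := by
    intro t k j
    simp [Finsupp.finsetSum_apply, Finsupp.single_apply]
  have hz : ∀ t ∈ (Finset.univ : Finset (Fin d)).powersetCard (d - 1), ∀ k : Fin d,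
      coeff (word d w₂) ((∏ j ∈ t, (X (j, 0) : MvPolynomial (Fin d × Fin 2) κ)) * X (k, 1)) = 0 := by
    intro t _ k
    rw [hmon, coeff_monomial, if_neg]
    intro e
    have a := congrArg (fun f => f (j₀, (1 : Fin 2))) e
    have b := congrArg (fun f => f ((⟨1, by omega⟩ : Fin d), (1 : Fin 2))) e
    have hw0 : w₂ j₀ = 1 := if_pos (by simp only [j₀]; omega)
    have hw1 : w₂ ⟨1, by omega⟩ = 1 := if_pos (by simp only; omega)
    simp only [heval, word_apply, hw0, hw1] at a b
    have ka : k = j₀ := by by_contra h; simp [h] at a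
    have kb : k = (⟨1, by omega⟩ : Fin d) := by by_contra h; simp [h] at b
    exact absurd (congrArg Fin.val (ka.symm.trans kb)) (by simp [j₀])
  rw [Finset.sum_eq_zero (s := (Finset.univ : Finset (Fin d)).powersetCard (d - 1))
    (f := fun t => ∑ k, coeff (word d w₂) ((∏ j ∈ t, (X (j, 0) : MvPolynomial (Fin d × Fin 2) κ)) * X (k, 1)))
    (fun t ht => Finset.sum_eq_zero fun k _ => hz t ht k)] at key
  have hone : word d w₁ = (∑ j ∈ Finset.univ.erase j₀, Finsupp.single (j, (0 : Fin 2)) 1) + Finsupp.single (j₀, 1) 1 := by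
    rw [word, ← Finset.sum_erase_add _ _ (Finset.mem_univ j₀)]
    congr 1
    · exact Finset.sum_congr rfl fun j hj => by simp [w₁, oneAt, (Finset.mem_erase.1 hj).1]
  rw [Finset.sum_eq_single (Finset.univ.erase j₀)] at key
  · rw [Finset.sum_eq_single j₀, hmon, coeff_monomial, if_pos hone.symm] at key
    · exact one_ne_zero key
    · intro k _ hk
      rw [hmon, coeff_monomial, if_neg]
      intro e
      have a := congrArg (fun f => f (j₀, (1 : Fin 2))) e
      simp [heval, word_apply, w₁, oneAt, hk] at a
    · simp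
  · intro t ht hne
    refine Finset.sum_eq_zero fun k _ => ?_
    rw [hmon, coeff_monomial, if_neg]
    intro e
    apply hne
    ext j
    have a := congrArg (fun f => f (j, (0 : Fin 2))) e
    simp [Finsupp.finsetSum_apply, Finsupp.single_apply, word_apply, w₁, oneAt] at a
    by_cases hj : j = j₀
    · subst hj; simpa using a
    · simpa [hj] using a
  · intro h
    exact absurd (Finset.mem_powersetCard.2 ⟨Finset.subset_univ _, by simp⟩) h

end Groth.Agent.GammaSpanCyclic
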